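/-
Coordinates on the fundamental root groups and the torus of ²F₄(q).

* `x0`, `x7`, `x7_mul`; `PhiE` : the torus in terms of its two fundamental characters;
* `dF_conj_x0`, `dF_conj_x7`, `n1_conj_dF`.
-/
import Cfsg.Agent.Lib.Twisted.F4Twisted
import Cfsg.Agent.EqLemmas

set_option autoImplicit false
set_option maxRecDepth 10000
set_option linter.unusedSectionVars false
set_option backward.isDefEq.respectTransparency false

namespace Cfsg.Agent.Twisted.F4Aut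

open Cfsg.Lie Cfsg.Lie.ChevalleyDatum Matrix
open Cfsg.Agent.Chev Cfsg.Agent.ChevBN Cfsg.Agent.Twisted.F4

variable {K : Type*} [Field K] [CharP K 2] {m : ℕ}

/-- An element of the class of the short fundamental pair. -/
def x0 (m : ℕ) (t : K) : GL chevF4.Idx K := xF K 33 (t ^ 2 ^ m) * xF K 24 t

/-- An element of the fundamental class of type B₂. -/
def x7 (m : ℕ) (t u : K) : GL chevF4.Idx K :=
  xF K 27 (t ^ 2 ^ m) * xF K 25 t * xF K 28 (t ^ (2 ^ m + 1) + u) * xF K 30 (u ^ (2 * 2 ^ m))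

variable [Fintype K] (hK : Fintype.card K = 2 ^ (2 * m + 1))
include hK

theorem q_pow (x : K) : x ^ (2 * (2 ^ m * 2 ^ m)) = x := by
  rw [show 2 * (2 ^ m * 2 ^ m) = Fintype.card K by rw [hK]; ring, FiniteField.pow_card]

theorem q_pow_unit (x : Kˣ) : x ^ (2 * (2 ^ m * 2 ^ m)) = x :=
  Units.ext (by push_cast; exact q_pow hK (x : K))

theorem x0_mem (t : K) : x0 m t ∈ X K m 0 := (mem_X0_iff hK).2 ⟨t, rfl⟩

theorem x7_mem (t u : K) : x7 m t u ∈ X K m 7 := (mem_X7_iff hK).2 ⟨t, u, rfl⟩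

theorem x0_inj {t t' : K} (h : x0 m t = x0 m t') : t = t' := (pair_unique hK h).2

theorem x0_add (t t' : K) : x0 m (t + t') = x0 m t * x0 m t' := by
  have hc : ∀ x y : K, xF K 24 x * xF K 33 y = xF K 33 y * xF K 24 x := fun x y =>
    comm_free' hK (r := 33) (s := 24) (by decide) (by decide) (by decide) (by decide) (by decide +kernel) y x
  rw [x0, x0, x0, add_pow_char_pow (p := 2) (n := m), mul_assoc (xF K 33 (t ^ 2 ^ m)),
    ← mul_assoc (xF K 24 t), hc, mul_assoc (xF K 33 (t' ^ 2 ^ m)), xg_add DataF4.good (by decide),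
    ← mul_assoc, xg_add DataF4.good (by decide)]

theorem x7_inj {t u t' u' : K} (h : x7 m t u = x7 m t' u') : t = t' ∧ u = u' := by
  obtain ⟨-, h1, h2, -⟩ := b2_unique hK h
  rw [h1] at h2
  exact ⟨h1, add_left_cancel h2⟩

theorem x7_of_coords {g : GL chevF4.Idx K} (hg : g ∈ X K m 7) {a b c d : K}
    (e : g = xF K 27 a * xF K 25 b * xF K 28 c * xF K 30 d) : g = x7 m b (c + b ^ (2 ^ m + 1)) := by
  obtain ⟨t, u, rfl⟩ := (mem_X7_iff hK).1 hg
  obtain ⟨-, rfl, rfl, -⟩ := b2_unique hK e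
  rw [x7, add_right_comm, CharTwo.add_self_eq_zero, zero_add]

/-- Root elements commute when all structure constants of their commutator are even. -/
theorem comm_even {r s : ℕ} (hr : r < 48) (hs : s < 48) (h₁ : s ≠ r) (h₂ : s ≠ chevF4.neg r)
    (h : ∀ τ ∈ chevF4.commTerms r s, τ.2.1 % 2 = 0) (t u : K) :
    xF K s u * xF K r t = xF K r t * xF K s u := by
  apply Units.ext
  rw [Units.val_mul, Units.val_mul, coe_xg, coe_xg, DataF4.good.commutator hr hs h₁ h₂]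
  have hw : ∀ L : List (ℕ × K), (∀ e ∈ L, e.2 = 0) → chevF4.wordMat K L = 1 := by
    intro L
    induction L with
    | nil => intro _; simp [ChevalleyDatum.wordMat]
    | cons e L ih =>
      intro he
      have h0 := he e (List.mem_cons_self ..)
      have := ih fun x hx => he x (List.mem_cons_of_mem _ hx)
      simp only [ChevalleyDatum.wordMat, List.map_cons, List.prod_cons] at this ⊢
      rw [this, h0, DataF4.good.x_zero, mul_one]
  rw [hw _ fun e he => ?_, mul_one]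
  simp only [ChevalleyDatum.commWord, List.mem_map] at he
  obtain ⟨τ, hτ, rfl⟩ := he
  obtain ⟨c, hc⟩ : (2 : ℤ) ∣ τ.2.1 := Int.dvd_of_emod_eq_zero (h τ hτ)
  simp [hc, CharTwo.two_eq_zero]

theorem b2_mul (a b c d a' b' c' d' : K) :
    xF K 27 a * xF K 25 b * xF K 28 c * xF K 30 d * (xF K 27 a' * xF K 25 b' * xF K 28 c' * xF K 30 d') =
      xF K 27 (a + a') * xF K 25 (b + b') * xF K 28 (a' * b + c + c') * xF K 30 (a' ^ 2 * b + d + d') := by
  have hd : ∀ r ∈ [27, 25, 28], ∀ s ∈ [28, 30], r ≠ s →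
      r < 48 ∧ s < 48 ∧ s ≠ r ∧ s ≠ chevF4.neg r ∧ ∀ τ ∈ chevF4.commTerms r s, τ.2.1 % 2 = 0 := by decide +kernel
  have hc : ∀ r ∈ [27, 25, 28], ∀ s ∈ [28, 30], r ≠ s → ∀ x y : K,
      Commute (xF K s y) (xF K r x) := fun r hr s hs hrs x y => by
    obtain ⟨h1, h2, h3, h4, h5⟩ := hd r hr s hs hrs
    exact comm_even hK h1 h2 h3 h4 h5 x y
  have add : ∀ {r : ℕ}, r < chevF4.nroots → ∀ x y : K, xF K r x * xF K r y = xF K r (x + y) :=
    fun hr x y => xg_add DataF4.good hr x y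
  set A := xF K 27; set B := xF K 25; set C := xF K 28; set E := xF K 30
  have hCA : ∀ x y, Commute (C y) (A x) := hc 27 (by simp) 28 (by simp) (by decide)
  have hCB : ∀ x y, Commute (C y) (B x) := hc 25 (by simp) 28 (by simp) (by decide)
  have hEA : ∀ x y, Commute (E y) (A x) := hc 27 (by simp) 30 (by simp) (by decide)
  have hEB : ∀ x y, Commute (E y) (B x) := hc 25 (by simp) 30 (by simp) (by decide)
  have hEC : ∀ x y, Commute (E y) (C x) := hc 28 (by simp) 30 (by simp) (by decide)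
  calc A a * B b * C c * E d * (A a' * B b' * C c' * E d')
      = A a * B b * (C c * E d * A a') * (B b' * C c' * E d') := by simp only [mul_assoc]
    _ = A a * B b * (A a' * (C c * E d)) * (B b' * C c' * E d') := by
        rw [((hCA _ _).mul_left (hEA _ _)).eq]
    _ = A a * (B b * A a') * (C c * E d * B b') * (C c' * E d') := by simp only [mul_assoc]
    _ = A a * (A a' * B b * C (a' * b) * E (a' ^ 2 * b)) * (B b' * (C c * E d)) * (C c' * E d') := by
        rw [comm2725 hK, ((hCB _ _).mul_left (hEB _ _)).eq]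
    _ = A a * A a' * B b * (C (a' * b) * E (a' ^ 2 * b) * B b') * (C c * (E d * C c') * E d') := by
        simp only [mul_assoc]
    _ = A a * A a' * B b * (B b' * (C (a' * b) * E (a' ^ 2 * b))) * (C c * (C c' * E d) * E d') := by
        rw [((hCB _ _).mul_left (hEB _ _)).eq, (hEC _ _).eq]
    _ = A a * A a' * (B b * B b') * (C (a' * b) * (E (a' ^ 2 * b) * (C c * C c')) * (E d * E d')) := by
        simp only [mul_assoc]
    _ = _ := by
        rw [((hEC c _).mul_right (hEC c' _)).eq, show a' * b + c + c' = a' * b + (c + c') by ring,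
          show a' ^ 2 * b + d + d' = a' ^ 2 * b + (d + d') by ring]
        simp only [A, B, C, E, mul_assoc, ← add (r := 27) (by decide), ← add (r := 25) (by decide),
          ← add (r := 28) (by decide), ← add (r := 30) (by decide)]

theorem x7_mul (t u t' u' : K) :
    x7 m t u * x7 m t' u' = x7 m (t + t') (u + u' + t ^ 2 ^ m * t') := by
  refine (x7_of_coords hK (mul_mem (x7_mem hK t u) (x7_mem hK t' u')) (b2_mul hK _ _ _ _ _ _ _ _)).trans ?_
  congr 1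
  rw [pow_succ (t + t'), add_pow_char_pow (p := 2) (n := m), pow_succ t, pow_succ t']
  linear_combination (t ^ 2 ^ m * t + t' ^ 2 ^ m * t + t' ^ 2 ^ m * t') * CharTwo.two_eq_zero (R := K)

theorem x7_zero : x7 m (0 : K) 0 = 1 := by
  simp [x7, xF, xg_zero]

/-! ### The torus -/

omit [CharP K 2] [Fintype K] hK in
theorem torusHom_conj {D : ChevalleyDatum} (hD : Good D) (c : Fin D.rank → Kˣ) {r : ℕ} (hr : r < D.nroots)
    (t : K) :
    ChevOrder.torusHom D K c * xg hD K r t * (ChevOrder.torusHom D K c)⁻¹ =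
      xg hD K r ((ChevOrder.chi c r : K) * t) := by
  have hm : ChevOrder.torusHom D K c ∈ D.diagonalSubgroup K := by
    rw [← ChevOrder.torusHom_range hD]; exact ⟨c, rfl⟩
  obtain ⟨χ, hχ, hc⟩ := isToral_of_mem hD hm
  have h : χ r = ChevOrder.chi c r := by
    have := congrFun (congrFun hχ (Sum.inr ⟨r, hr⟩)) (Sum.inr ⟨r, hr⟩)
    simp only [ChevOrder.coe_torusHom, dg, Matrix.diagonal_apply_eq, Sum.elim_inr] at this
    exact (Units.ext this).symm
  rw [hc, mul_inv_cancel_right, h]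

theorem tF_conj (c : Fin 4 → Kˣ) {r : ℕ} (hr : r < chevF4.nroots) (t : K) :
    tF c * xF K r t * (tF c)⁻¹ = xF K r ((ChevOrder.chi (D := chevF4) c r : K) * t) :=
  torusHom_conj DataF4.good c hr t

theorem cartan_vals : ∀ i : Fin 4,
    chevF4.cartan i.val 33 = ([2, -1, 0, 0] : List ℤ).getD i.val 0 ∧
    chevF4.cartan i.val 24 = ([0, 0, -1, 2] : List ℤ).getD i.val 0 ∧
    chevF4.cartan i.val 27 = ([-1, 2, -1, 0] : List ℤ).getD i.val 0 ∧
    chevF4.cartan i.val 25 = ([0, -2, 2, -1] : List ℤ).getD i.val 0 ∧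
    chevF4.cartan i.val 28 = ([-1, 0, 1, -1] : List ℤ).getD i.val 0 ∧
    chevF4.cartan i.val 30 = ([-2, 2, 0, -1] : List ℤ).getD i.val 0 := by
  decide +kernel

/-- The two fundamental characters of the torus. -/
def Phi (m : ℕ) : Kˣ × Kˣ →* Kˣ × Kˣ where
  toFun x := (x.1 ^ 2 / x.2, x.2 ^ 2 / (x.2 ^ (2 * 2 ^ m) * x.1))
  map_one' := by simp
  map_mul' x y := by
    refine Prod.ext ?_ ?_
    · simp [mul_pow, mul_div_mul_comm]
    · simp [mul_pow, mul_div_mul_comm, mul_mul_mul_comm]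

theorem chi_vals (a b : Kˣ) :
    ChevOrder.chi (D := chevF4) ![a ^ 2 ^ m, b ^ 2 ^ m, b, a] 24 = (Phi m (a, b)).1 ∧
    ChevOrder.chi (D := chevF4) ![a ^ 2 ^ m, b ^ 2 ^ m, b, a] 33 = (Phi m (a, b)).1 ^ 2 ^ m ∧
    ChevOrder.chi (D := chevF4) ![a ^ 2 ^ m, b ^ 2 ^ m, b, a] 25 = (Phi m (a, b)).2 ∧
    ChevOrder.chi (D := chevF4) ![a ^ 2 ^ m, b ^ 2 ^ m, b, a] 27 = (Phi m (a, b)).2 ^ 2 ^ m ∧
    ChevOrder.chi (D := chevF4) ![a ^ 2 ^ m, b ^ 2 ^ m, b, a] 28 = (Phi m (a, b)).2 ^ (2 ^ m + 1) := by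
  have hchi : ∀ r, ChevOrder.chi (D := chevF4) ![a ^ 2 ^ m, b ^ 2 ^ m, b, a] r =
      ∏ i : Fin 4, (![a ^ 2 ^ m, b ^ 2 ^ m, b, a] : Fin 4 → Kˣ) i ^ chevF4.cartan i.val r := fun _ => rfl
  have h2 : ∀ x : Kˣ, (x ^ (2 * 2 ^ m)) ^ 2 ^ m = x := fun x => by
    rw [← pow_mul, mul_assoc, q_pow_unit hK]
  have hβ : (Phi m (a, b)).2 ^ 2 ^ m = (b ^ 2 ^ m) ^ 2 / (b * a ^ 2 ^ m) := by
    show (b ^ 2 / (b ^ (2 * 2 ^ m) * a)) ^ 2 ^ m = _
    rw [div_pow, mul_pow, h2, pow_right_comm]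
  simp only [hchi, Fin.prod_univ_four, (cartan_vals hK _).1, (cartan_vals hK _).2.1, (cartan_vals hK _).2.2.1,
    (cartan_vals hK _).2.2.2.1, (cartan_vals hK _).2.2.2.2.1]
  refine ⟨?_, ?_, ?_, ?_, ?_⟩
  · simp [Phi, div_eq_mul_inv, mul_comm, _root_.zpow_ofNat]
  · simp [Phi, div_eq_mul_inv, mul_comm, _root_.zpow_ofNat, mul_pow, inv_pow, pow_right_comm a 2]
  · simp [Phi, div_eq_mul_inv, mul_comm, mul_left_comm, _root_.zpow_ofNat, pow_mul, pow_right_comm b 2]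
  · rw [hβ]
    simp [div_eq_mul_inv, mul_comm, mul_left_comm, mul_assoc, _root_.zpow_ofNat]
  · rw [pow_succ, hβ]
    simp [Phi, div_eq_mul_inv, _root_.zpow_ofNat, pow_mul, pow_right_comm b 2]
    apply Units.ext
    push_cast
    field_simp

theorem Phi_injective : Function.Injective (Phi (K := K) m) := by
  rw [injective_iff_map_eq_one]
  rintro ⟨a, b⟩ h
  obtain ⟨h1, h2⟩ := Prod.mk.inj h
  simp only [div_eq_one] at h1 h2
  subst h1
  have he : 1 ≤ 2 ^ m := Nat.one_le_two_pow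
  -- `a ^ (4 e - 3) = 1`
  obtain ⟨n, hn⟩ : ∃ n, 4 * 2 ^ m = n + 3 := ⟨4 * 2 ^ m - 3, by omega⟩
  have h3 : a ^ n = 1 := by
    refine mul_right_cancel (b := a ^ 4) ?_
    rw [← pow_add, show n + 4 = 4 * 2 ^ m + 1 by omega, one_mul, pow_succ]
    rw [← pow_mul, ← pow_mul] at h2
    rw [show 4 * 2 ^ m = 2 * (2 * 2 ^ m) by ring, ← h2]
  have h4 : a ^ (n * (4 * 2 ^ m + 3)) = 1 := by rw [pow_mul, h3, one_pow]
  have h5 : n * (4 * 2 ^ m + 3) + 9 = 8 * (2 * (2 ^ m * 2 ^ m)) := by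
    have : (n + 3) * (4 * 2 ^ m + 3) = 4 * 2 ^ m * (4 * 2 ^ m + 3) := by rw [hn]
    nlinarith [this]
  have h6 : a ^ (n * (4 * 2 ^ m + 3) + 9) = a ^ 8 := by rw [h5, pow_mul', q_pow_unit hK]
  have ha : a = 1 := by
    rw [pow_add, h4, one_mul, pow_succ] at h6
    exact mul_left_cancel (a := a ^ 8) (by rw [h6, mul_one])
  simp [ha]

/-- The torus through its two fundamental characters. -/
noncomputable def PhiE : Kˣ × Kˣ ≃* Kˣ × Kˣ :=
  MulEquiv.ofBijective (Phi m) (Finite.injective_iff_bijective.1 (Phi_injective hK))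

/-- The torus element with given fundamental characters. -/
noncomputable def dF : Kˣ × Kˣ →* (rgdF4' hK (m := m)).G where
  toFun p := ⟨tH m ((PhiE hK).symm p), (rgdF4' hK (m := m)).B_le_G ((rgdF4' hK (m := m)).H_le_B
    ((mem_H1_iff hK).2 ⟨_, rfl⟩))⟩
  map_one' := Subtype.ext (by
    show tH m ((PhiE hK).symm 1) = 1
    rw [map_one, tH]
    simp only [Prod.fst_one, Prod.snd_one, one_pow]
    rw [show (![1, 1, 1, 1] : Fin 4 → Kˣ) = 1 from funext fun i => by fin_cases i <;> rfl]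
    exact map_one _)
  map_mul' p p' := Subtype.ext (by
    show tH m ((PhiE hK).symm (p * p')) = _
    rw [map_mul, tH_mul hK]
    rfl)

theorem dF_surj {h : (rgdF4' hK (m := m)).G} (hh : (h : GL chevF4.Idx K) ∈ (rgdF4' hK (m := m)).H) :
    ∃ p, h = dF hK p := by
  obtain ⟨x, hx⟩ := (mem_H1_iff hK).1 hh
  refine ⟨PhiE hK x, Subtype.ext ?_⟩
  show _ = tH m ((PhiE hK).symm (PhiE hK x))
  rw [MulEquiv.symm_apply_apply, hx]

theorem dF_mem (p : Kˣ × Kˣ) : ((dF hK p : (rgdF4' hK (m := m)).G) : GL chevF4.Idx K) ∈ (rgdF4' hK (m := m)).H :=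
  (mem_H1_iff hK).2 ⟨_, rfl⟩

theorem dF_inj {p p' : Kˣ × Kˣ} (h : dF hK p = dF hK p') : p = p' :=
  (PhiE hK).symm.injective (tH_inj hK (congrArg Subtype.val h))

theorem dF_conj_x0 (p : Kˣ × Kˣ) (t : K) :
    (dF hK p : GL chevF4.Idx K) * x0 m t * (dF hK p : GL chevF4.Idx K)⁻¹ = x0 m ((p.1 : K) * t) := by
  obtain ⟨⟨a, b⟩, rfl⟩ := (PhiE hK).surjective p
  show tH m ((PhiE hK).symm _) * x0 m t * (tH m ((PhiE hK).symm _))⁻¹ = _
  rw [MulEquiv.symm_apply_apply, tH, x0]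
  rw [show ∀ g y z : GL chevF4.Idx K, g * (y * z) * g⁻¹ = (g * y * g⁻¹) * (g * z * g⁻¹) from
    fun g y z => by group, tF_conj hK _ (by decide), tF_conj hK _ (by decide), (chi_vals hK a b).1,
    (chi_vals hK a b).2.1, x0, Units.val_pow_eq_pow_val, ← mul_pow]
  rfl

theorem dF_conj_x7 (p : Kˣ × Kˣ) (t u : K) :
    (dF hK p : GL chevF4.Idx K) * x7 m t u * (dF hK p : GL chevF4.Idx K)⁻¹ =
      x7 m ((p.2 : K) * t) ((p.2 : K) ^ (2 ^ m + 1) * u) := by
  obtain ⟨⟨a, b⟩, rfl⟩ := (PhiE hK).surjective p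
  set g : GL chevF4.Idx K := ((dF hK (PhiE hK (a, b))) : GL chevF4.Idx K) with hg
  have hmem : g * x7 m t u * g⁻¹ ∈ X K m 7 :=
    (rgdF4' hK (m := m)).H_conj_U g (dF_mem hK _) 7 _ (x7_mem hK t u)
  have hg' : g = tF ![a ^ 2 ^ m, b ^ 2 ^ m, b, a] := by
    show tH m ((PhiE hK).symm _) = _
    rw [MulEquiv.symm_apply_apply, tH]
  obtain ⟨-, -, h25, h27, h28⟩ := chi_vals hK a b
  have e : g * x7 m t u * g⁻¹ =
      xF K 27 ((ChevOrder.chi (D := chevF4) ![a ^ 2 ^ m, b ^ 2 ^ m, b, a] 27 : K) * t ^ 2 ^ m) *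
        xF K 25 (((Phi m (a, b)).2 : K) * t) *
        xF K 28 ((((Phi m (a, b)).2 ^ (2 ^ m + 1) : Kˣ) : K) * (t ^ (2 ^ m + 1) + u)) *
        xF K 30 ((ChevOrder.chi (D := chevF4) ![a ^ 2 ^ m, b ^ 2 ^ m, b, a] 30 : K) * u ^ (2 * 2 ^ m)) := by
    rw [x7, show ∀ (A B C E : GL chevF4.Idx K), g * (A * B * C * E) * g⁻¹ =
      (g * A * g⁻¹) * (g * B * g⁻¹) * (g * C * g⁻¹) * (g * E * g⁻¹) from fun A B C E => by group, hg',
      tF_conj hK _ (r := 27) (by decide), tF_conj hK _ (r := 25) (by decide),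
      tF_conj hK _ (r := 28) (by decide), tF_conj hK _ (r := 30) (by decide), h25, h28]
  refine (x7_of_coords hK hmem e).trans ?_
  show x7 m (((Phi m (a, b)).2 : Kˣ) * t) _ = x7 m (((Phi m (a, b)).2 : Kˣ) * t) (((Phi m (a, b)).2 : Kˣ) ^ (2 ^ m + 1) * u)
  congr 1
  rw [Units.val_pow_eq_pow_val, mul_pow, mul_add, add_right_comm, CharTwo.add_self_eq_zero, zero_add]

theorem coroot_neg_vals : ∀ i < 4,
    (chevF4.coroot.getD 20 #[]).getD i 0 = (if i = 1 then -1 else 0) ∧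
    (chevF4.coroot.getD 22 #[]).getD i 0 = (if i = 2 then -1 else 0) := by
  decide +kernel

theorem n1_conj_tH (a b : Kˣ) :
    (RF K).nw (W 1) * tH m (a, b) * ((RF K).nw (W 1))⁻¹ = tH m (a, a ^ (2 * 2 ^ m + 2) / b) := by
  set n := (RF K).nw (W 1)
  rw [tH, ← hg_simples hK,
    show ∀ A B C E : GL chevF4.Idx K, n * (A * B * C * E) * n⁻¹ =
      (n * A * n⁻¹) * (n * B * n⁻¹) * (n * C * n⁻¹) * (n * E * n⁻¹) from fun A B C E => by group,
    nw_conj_hg DataF4.good rootsF4 (W 1) (s := 33) (by decide),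
    nw_conj_hg DataF4.good rootsF4 (W 1) (s := 27) (by decide),
    nw_conj_hg DataF4.good rootsF4 (W 1) (s := 25) (by decide),
    nw_conj_hg DataF4.good rootsF4 (W 1) (s := 24) (by decide),
    show wwN chevF4 (W 1) 33 = 37 by decide +kernel, show wwN chevF4 (W 1) 27 = 20 by decide +kernel,
    show wwN chevF4 (W 1) 25 = 22 by decide +kernel, show wwN chevF4 (W 1) 24 = 32 by decide +kernel,
    hg_eq_torusHom DataF4.good (show 37 < chevF4.nroots by decide),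
    hg_eq_torusHom DataF4.good (show 20 < chevF4.nroots by decide),
    hg_eq_torusHom DataF4.good (show 22 < chevF4.nroots by decide),
    hg_eq_torusHom DataF4.good (show 32 < chevF4.nroots by decide), ← map_mul, ← map_mul, ← map_mul, tH]
  refine congrArg _ (funext fun (i : Fin 4) => ?_)
  obtain ⟨-, -, -, -, h5, h6⟩ := coroot_vals hK i.val i.isLt
  obtain ⟨h7, h8⟩ := coroot_neg_vals hK i.val i.isLt
  simp only [Pi.mul_apply, h5, h6, h7, h8]
  have hq : (a ^ (2 * 2 ^ m + 2)) ^ 2 ^ m = (a ^ 2 ^ m) ^ 2 * a := by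
    rw [← pow_mul, add_mul, mul_assoc, pow_add, q_pow_unit hK, mul_comm 2, pow_mul, mul_comm]
  fin_cases i
  · simp
  · simp [hq, div_pow, mul_pow, inv_pow, div_eq_mul_inv, _root_.zpow_ofNat, mul_comm, mul_left_comm, mul_assoc]
  · simp [div_eq_mul_inv, _root_.zpow_ofNat, pow_add, pow_mul, pow_right_comm a 2, mul_comm, mul_left_comm]
  · simp

theorem n1_conj_dF (p : Kˣ × Kˣ) : ∃ r : Kˣ,
    (RF K).nw (W 1) * (dF hK p : GL chevF4.Idx K) * ((RF K).nw (W 1))⁻¹ =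
      (dF hK (p.1 * p.2 ^ (2 * 2 ^ m + 2), r) : GL chevF4.Idx K) := by
  obtain ⟨⟨a, b⟩, rfl⟩ := (PhiE hK).surjective p
  refine ⟨(Phi m (a, a ^ (2 * 2 ^ m + 2) / b)).2, ?_⟩
  show _ * tH m ((PhiE hK).symm _) * _ = tH m ((PhiE hK).symm _)
  rw [MulEquiv.symm_apply_apply, n1_conj_tH hK]
  refine congrArg (tH m) ((MulEquiv.eq_symm_apply _).2 (Prod.ext ?_ rfl))
  show a ^ 2 / (a ^ (2 * 2 ^ m + 2) / b) = (a ^ 2 / b) * (b ^ 2 / (b ^ (2 * 2 ^ m) * a)) ^ (2 * 2 ^ m + 2)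
  have h4 : (b ^ (2 * 2 ^ m)) ^ (2 * 2 ^ m + 2) = b ^ 2 * b ^ (4 * 2 ^ m) := by
    rw [← pow_mul, show 2 * 2 ^ m * (2 * 2 ^ m + 2) = 2 * (2 ^ m * 2 ^ m) * 2 + 4 * 2 ^ m by ring, pow_add,
      pow_mul, q_pow_unit hK]
  rw [div_pow, mul_pow, h4]
  apply Units.ext
  simp only [Units.val_mul, Units.val_div_eq_div_val, Units.val_pow_eq_pow_val]
  field_simp
  ring

end Cfsg.Agent.Twisted.F4Aut
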