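/-
Outer automorphisms of ²F₄(q).

* `fieldAutF` : the field automorphisms;
* `normalised`, `field_of_maps`, `trivial_of_normal`, `exists_decomp`, `card_out`.
-/
import Cfsg.Agent.Lib.TwistAutF4.Coords
import Cfsg.Agent.Lib.RGD.AutFix
import Cfsg.Agent.Lib.TwistAut.Cases

set_option autoImplicit false
set_option maxRecDepth 10000
set_option linter.unusedSectionVars false
set_option backward.isDefEq.respectTransparency false

namespace Cfsg.Agent.Twisted.F4Aut

open Cfsg.Lie Cfsg.Lie.ChevalleyDatum Matrix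
open Cfsg.Agent.Chev Cfsg.Agent.ChevBN Cfsg.Agent.Twisted.F4
open Cfsg.Agent.RGD Cfsg.Agent.ChevAut
open Cfsg.Agent.TwistE6D4 (galG galG_gx)

variable {K : Type*} [Field K] [CharP K 2] {m : ℕ} [Fintype K] (hK : Fintype.card K = 2 ^ (2 * m + 1))
include hK

/-- The group. -/
noncomputable abbrev GF : Subgroup (GL chevF4.Idx K) := (rgdF4' hK (m := m)).G

/-- A root element of the first fundamental class. -/
noncomputable def x0G (t : K) : GF hK := ⟨x0 m t, AutFix.U_le_G_simple (rgdF4' hK (m := m)) 0 (x0_mem hK t)⟩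

/-- A root element of the second fundamental class. -/
noncomputable def x7G (t u : K) : GF hK :=
  ⟨x7 m t u, AutFix.U_le_G_simple (rgdF4' hK (m := m)) 1 (x7_mem hK t u)⟩

theorem x0G_inj {t t' : K} (h : x0G hK t = x0G hK t') : t = t' := x0_inj hK (congrArg Subtype.val h)

theorem x7G_inj {t u t' u' : K} (h : x7G hK t u = x7G hK t' u') : t = t' ∧ u = u' :=
  x7_inj hK (congrArg Subtype.val h)

theorem x0G_add (t t' : K) : x0G hK (t + t') = x0G hK t * x0G hK t' := Subtype.ext (x0_add hK t t')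

theorem x7G_mul (t u t' u' : K) :
    x7G hK t u * x7G hK t' u' = x7G hK (t + t') (u + u' + t ^ 2 ^ m * t') :=
  Subtype.ext (x7_mul hK t u t' u')

theorem x7G_zero : x7G hK (0 : K) 0 = 1 := Subtype.ext (x7_zero hK)

theorem dF_conj_x0G (p : Kˣ × Kˣ) (t : K) : dF hK p * x0G hK t * (dF hK p)⁻¹ = x0G hK ((p.1 : K) * t) :=
  Subtype.ext (dF_conj_x0 hK p t)

theorem dF_conj_x7G (p : Kˣ × Kˣ) (t u : K) :
    dF hK p * x7G hK t u * (dF hK p)⁻¹ = x7G hK ((p.2 : K) * t) ((p.2 : K) ^ (2 ^ m + 1) * u) :=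
  Subtype.ext (dF_conj_x7 hK p t u)

theorem mem_U0_iff {x : GF hK} : (x : GL chevF4.Idx K) ∈ X K m 0 ↔ ∃ t, x = x0G hK t := by
  rw [mem_X0_iff hK]
  exact ⟨fun ⟨t, h⟩ => ⟨t, Subtype.ext h⟩, fun ⟨t, h⟩ => ⟨t, congrArg Subtype.val h⟩⟩

theorem mem_U7_iff {x : GF hK} : (x : GL chevF4.Idx K) ∈ X K m 7 ↔ ∃ t u, x = x7G hK t u := by
  rw [mem_X7_iff hK]
  exact ⟨fun ⟨t, u, h⟩ => ⟨t, u, Subtype.ext h⟩, fun ⟨t, u, h⟩ => ⟨t, u, congrArg Subtype.val h⟩⟩

/-! ### Field automorphisms -/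

theorem galG_xF (τ : RingAut K) (r : ℕ) (t : K) : galG τ (xF K r t) = xF K r (τ t) :=
  galG_gx DataF4.good τ r t

theorem galG_x0 (τ : RingAut K) (t : K) : galG τ (x0 m t) = x0 m (τ t) := by
  rw [x0, x0, map_mul, galG_xF hK, galG_xF hK, map_pow]

theorem galG_x7 (τ : RingAut K) (t u : K) : galG τ (x7 m t u) = x7 m (τ t) (τ u) := by
  rw [x7, x7, map_mul, map_mul, map_mul, galG_xF hK, galG_xF hK, galG_xF hK, galG_xF hK, map_add, map_pow,
    map_pow, map_pow]

theorem galG_x8 (τ : RingAut K) (t : K) :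
    galG τ (xF K 14 (t ^ 2 ^ m) * xF K 23 t) = xF K 14 (τ t ^ 2 ^ m) * xF K 23 (τ t) := by
  rw [map_mul, galG_xF hK, galG_xF hK, map_pow]

theorem galG_x15 (τ : RingAut K) (t u : K) :
    galG τ (xF K 20 (t ^ 2 ^ m) * xF K 22 t * xF K 19 (t ^ (2 ^ m + 1) + u) * xF K 17 (u ^ (2 * 2 ^ m))) =
      xF K 20 (τ t ^ 2 ^ m) * xF K 22 (τ t) * xF K 19 (τ t ^ (2 ^ m + 1) + τ u) *
        xF K 17 (τ u ^ (2 * 2 ^ m)) := by
  rw [map_mul, map_mul, map_mul, galG_xF hK, galG_xF hK, galG_xF hK, galG_xF hK, map_add, map_pow,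
    map_pow, map_pow]

theorem galG_simple (τ : RingAut K) (i : Fin 2) :
    (∀ g ∈ X K m (sc i), galG τ g ∈ X K m (sc i)) ∧ ∀ g ∈ X K m (sc i + 8), galG τ g ∈ X K m (sc i + 8) := by
  fin_cases i
  · refine ⟨fun g hg => ?_, fun g hg => ?_⟩
    · obtain ⟨t, rfl⟩ := (mem_X0_iff hK).1 hg
      exact (mem_X0_iff hK).2 ⟨τ t, galG_x0 hK τ t⟩
    · obtain ⟨t, rfl⟩ := (mem_X8_iff hK).1 hg
      exact (mem_X8_iff hK).2 ⟨τ t, galG_x8 hK τ t⟩
  · refine ⟨fun g hg => ?_, fun g hg => ?_⟩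
    · obtain ⟨t, u, rfl⟩ := (mem_X7_iff hK).1 hg
      exact (mem_X7_iff hK).2 ⟨τ t, τ u, galG_x7 hK τ t u⟩
    · obtain ⟨t, u, rfl⟩ := (mem_X15_iff hK).1 hg
      exact (mem_X15_iff hK).2 ⟨τ t, τ u, galG_x15 hK τ t u⟩

theorem galG_mem (τ : RingAut K) {g : GL chevF4.Idx K} (hg : g ∈ GF hK) : galG τ g ∈ GF hK := by
  have hs : ∀ i x, x ∈ X K m (sc i) → galG τ x ∈ GF hK := fun i x hx =>
    AutFix.U_le_G_simple (rgdF4' hK (m := m)) i ((galG_simple hK τ i).1 x hx)
  have hn : ∀ i x, x ∈ X K m (sc i + 8) → galG τ x ∈ GF hK := fun i x hx =>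
    AutFix.U_le_G_neg (rgdF4' hK (m := m)) i ((galG_simple hK τ i).2 x hx)
  have h : twistedF4 K (2 ^ m) ≤ (GF hK).comap (galG τ) := by
    refine (Subgroup.closure_le _).2 ?_
    rintro g ⟨w, (⟨t, rfl | rfl⟩ | ⟨t, u, rfl | rfl⟩), e⟩
    · refine hs 0 g ((mem_X0_iff hK).2 ⟨t, Units.ext ?_⟩)
      rw [e]; simp [f4PairWord, f4p1, f4p4, ChevalleyDatum.wordMat]
    · refine hn 0 g ((mem_X8_iff hK).2 ⟨t, Units.ext ?_⟩)
      rw [e]; simp [f4PairWord, f4m1, f4m4, ChevalleyDatum.wordMat]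
    · refine hs 1 g ((mem_X7_iff hK).2 ⟨t, u, Units.ext ?_⟩)
      rw [e]; simp [b2ClassWord, f4a, f4b, f4ab, f4aab, ChevalleyDatum.wordMat, mul_assoc]
    · refine hn 1 g ((mem_X15_iff hK).2 ⟨t, u, Units.ext ?_⟩)
      rw [e]; simp [b2ClassWord, f4ma, f4mb, f4mab, f4maab, ChevalleyDatum.wordMat, mul_assoc]
  rw [twisted_eq hK] at h
  exact h hg

theorem galG_X (τ : RingAut K) (j : Fin 16) {g : GL chevF4.Idx K} (hg : g ∈ X K m j) :
    galG τ g ∈ X K m j := by
  have h1 : spF K (cls j.val) ≤ (spF K (cls j.val)).comap (galG τ) :=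
    (RF K).span_le fun r hr x hx => by
      obtain ⟨u, rfl⟩ := (mem_rootSubgroup DataF4.good _).1 hx
      show galG τ (xF K r.val u) ∈ spF K (cls j.val)
      rw [galG_xF hK]
      exact xg_mem_sp DataF4.good rootsF4 r.isLt hr _
  have hG : g ∈ GF hK := by
    rw [GF, ← twisted_eq hK]
    exact X_le_twisted hK j hg
  exact Subgroup.mem_inf.2 ⟨h1 (Subgroup.mem_inf.1 hg).1, rgd_G_le_fix hK (galG_mem hK τ hG)⟩

/-- The field automorphisms. -/
noncomputable def fieldAutF : RingAut K →* MulAut (GF hK) where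
  toFun τ :=
    { toFun := fun g => ⟨galG τ g.1, galG_mem hK τ g.2⟩
      invFun := fun g => ⟨galG τ.symm g.1, galG_mem hK _ g.2⟩
      left_inv := fun g => Subtype.ext (Units.ext (Matrix.ext fun a b => τ.symm_apply_apply _))
      right_inv := fun g => Subtype.ext (Units.ext (Matrix.ext fun a b => τ.apply_symm_apply _))
      map_mul' := fun g h => Subtype.ext (map_mul (galG τ) g.1 h.1) }
  map_one' := MulEquiv.ext fun g => Subtype.ext (Units.ext (Matrix.ext fun a b => rfl))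
  map_mul' σ τ := MulEquiv.ext fun g => Subtype.ext (Units.ext (Matrix.ext fun a b => rfl))

theorem fieldAutF_x0 (τ : RingAut K) (t : K) : fieldAutF hK τ (x0G hK t) = x0G hK (τ t) :=
  Subtype.ext (galG_x0 hK τ t)

theorem fieldAutF_x7 (τ : RingAut K) (t u : K) : fieldAutF hK τ (x7G hK t u) = x7G hK (τ t) (τ u) :=
  Subtype.ext (galG_x7 hK τ t u)

theorem galG_tF (τ : RingAut K) (c : Fin chevF4.rank → Kˣ) :
    galG τ (ChevOrder.torusHom chevF4 K c) = ChevOrder.torusHom chevF4 K fun i => Units.map τ.toRingHom (c i) := by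
  refine Units.ext ?_
  show ((ChevOrder.torusHom chevF4 K c : GL chevF4.Idx K) : Matrix chevF4.Idx chevF4.Idx K).map τ.toRingHom = _
  rw [ChevOrder.coe_torusHom, ChevOrder.coe_torusHom, dg, dg, Matrix.diagonal_map (map_zero τ.toRingHom)]
  congr 1
  funext a
  rcases a with i | s
  · simp
  · simp only [Sum.elim_inr, Function.comp_apply, ChevOrder.chi, ← map_zpow, ← map_prod]
    rfl

theorem fieldAutF_dF (τ : RingAut K) (p : Kˣ × Kˣ) :
    fieldAutF hK τ (dF hK p) = dF hK (Units.map τ.toRingHom p.1, Units.map τ.toRingHom p.2) := by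
  obtain ⟨⟨a, b⟩, rfl⟩ := (PhiE hK).surjective p
  refine Subtype.ext ?_
  show galG τ (tH m ((PhiE hK).symm (PhiE hK (a, b)))) = tH m ((PhiE hK).symm _)
  rw [MulEquiv.symm_apply_apply, tH, galG_tF hK]
  have e : (PhiE hK).symm (Units.map τ.toRingHom (PhiE hK (a, b)).1, Units.map τ.toRingHom (PhiE hK (a, b)).2) =
      (Units.map τ.toRingHom a, Units.map τ.toRingHom b) := by
    rw [MulEquiv.symm_apply_eq]
    show _ = Phi m _
    refine Prod.ext ?_ ?_ <;> simp [PhiE, Phi]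
  rw [e, tH]
  refine congrArg _ (funext fun (i : Fin 4) => ?_)
  fin_cases i <;> simp

/-! ### Normalisation -/

theorem long8 : ∀ j : Fin 16, j.val < 8 →
    ¬ ((([0, 1, 0, 1, 0, 1, 0, 1] : List (Fin 2)).foldr wcl j).val < 8) := by decide

theorem long8_simple : ∀ i : Fin 2, ([0, 1, 0, 1, 0, 1, 0, 1] : List (Fin 2)).foldr wcl (sc i) = sc i + 8 := by
  decide

theorem normalised (θ : MulAut (GF hK)) :
    ∃ x : GF hK, Maps (θ.trans (MulAut.conj x)) (rgdF4' hK (m := m)).H (rgdF4' hK (m := m)).H ∧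
      ∀ i, Maps (θ.trans (MulAut.conj x)) (X K m (sc i)) (X K m (sc i)) ∧
        Maps (θ.trans (MulAut.conj x)) (X K m (sc i + 8)) (X K m (sc i + 8)) := by
  haveI : Fact (Nat.Prime 2) := ⟨Nat.prime_two⟩
  set R := rgdF4' hK (m := m) with hR
  have hU : IsPGroup 2 R.Upos := by
    have h1 : IsPGroup 2 (chevF4.posUnipotent K) := by
      refine IsPGroup.of_card (n := (2 * m + 1) * (chevF4.nroots / 2)) ?_
      rw [ChevOrder.card_posUnipotent DataF4.good, Nat.card_eq_fintype_card, hK, pow_mul]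
    refine h1.to_le ?_
    rw [hR, Upos_eq hK, ← chev_Upos DataF4.good rootsF4]
    exact fun _ hx => hx.1
  have hcop : Nat.Coprime 2 (2 ^ (2 * m + 1) - 1) := by
    refine (Nat.Prime.coprime_iff_not_dvd Nat.prime_two).2 fun hdvd => ?_
    have : 2 ∣ 2 ^ (2 * m + 1) := dvd_pow_self 2 (by omega)
    have h3 : 1 ≤ 2 ^ (2 * m + 1) := Nat.one_le_two_pow
    omega
  have hH : ∀ h ∈ R.H, h ^ (2 ^ (2 * m + 1) - 1) = 1 := by
    intro h hh
    obtain ⟨p, hp⟩ := dF_surj hK (h := ⟨h, AutFix.H_le_G R hh⟩) hh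
    have hq : ∀ x : Kˣ, x ^ (2 ^ (2 * m + 1) - 1) = 1 := fun x => by
      classical
      rw [← hK, ← Fintype.card_units, pow_card_eq_one]
    have h2 : p ^ (2 ^ (2 * m + 1) - 1) = 1 := Prod.ext (hq p.1) (hq p.2)
    have h1 : (dF hK p) ^ (2 ^ (2 * m + 1) - 1) = 1 := by rw [← map_pow, h2, map_one]
    rw [show h = ((dF hK p : GF hK) : GL chevF4.Idx K) from congrArg Subtype.val hp, ← Subgroup.coe_pow, h1]
    rfl
  obtain ⟨g, hg, hgU⟩ := AutFix.exists_sylow_conj R hU hcop hH θ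
  have hww : ∀ (l : List (Fin 2)) j, R.ww l j = l.foldr wcl j := fun _ _ => rfl
  have hlo : ∀ r, R.pos r → ¬ R.pos (R.ww [0, 1, 0, 1, 0, 1, 0, 1] r) := long8 hK
  obtain ⟨x, h1, h2⟩ := exists_fix_pair R hlo rfl θ hg hgU
  choose π hπ using exists_maps_pos R hlo rfl h1 h2 id (long8_simple hK) Function.surjective_id
  choose π' hπ' using exists_maps_neg R hlo rfl h1 h2
  set ψ := θ.trans (MulAut.conj x)
  have hsame : ∀ i j : Fin 2, (cls (sc i).val).length / 2 = (cls (sc j).val).length / 2 → i = j := by decide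
  have hsame' : ∀ i j : Fin 2,
      (cls (sc i + 8).val).length / 2 = (cls (sc j + 8).val).length / 2 → i = j := by decide
  have hq1 : 1 < 2 ^ (2 * m + 1) := Nat.one_lt_pow (by omega) one_lt_two
  refine ⟨x, maps_H R hlo rfl h1 h2, fun i => ⟨?_, ?_⟩⟩
  · have hc := (hπ i).card_eq (AutFix.U_le_G_simple R i) (AutFix.U_le_G_simple R (π i))
    change Nat.card ↥(X K m (sc i)) = Nat.card ↥(X K m (sc (π i))) at hc
    rw [card_X hK, card_X hK] at hc
    have := hπ i
    rwa [← hsame i (π i) (Nat.pow_right_injective hq1 hc)] at this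
  · have hc := (hπ' i).card_eq (AutFix.U_le_G_neg R i) (AutFix.U_le_G_neg R (π' i))
    change Nat.card ↥(X K m (sc i + 8)) = Nat.card ↥(X K m (sc (π' i) + 8)) at hc
    rw [card_X hK, card_X hK] at hc
    have := hπ' i
    rwa [← hsame' i (π' i) (Nat.pow_right_injective hq1 hc)] at this

theorem exists_moved (hm : 1 ≤ m) : ∃ t : K, t ≠ 0 ∧ t + 1 ≠ 0 ∧ t ^ 2 ^ m ≠ t := by
  by_contra h
  push Not at h
  have h2 : ∀ t : K, t = 0 ∨ t = 1 := by
    intro t
    by_cases ht : t = 0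
    · exact Or.inl ht
    by_cases ht1 : t + 1 = 0
    · exact Or.inr (by linear_combination ht1 - CharTwo.two_eq_zero (R := K))
    have he := h t ht ht1
    have hq := q_pow hK t
    rw [show 2 * (2 ^ m * 2 ^ m) = 2 ^ m * 2 ^ m * 2 by ring, pow_mul, pow_mul, he, he] at hq
    exact Or.inr (mul_left_cancel₀ ht (by rw [mul_one, ← pow_two]; exact hq))
  classical
  have hcard : Fintype.card K ≤ 2 := by
    rw [← Finset.card_univ]
    exact (Finset.card_le_card (t := {0, 1}) fun t _ => by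
      rcases h2 t with rfl | rfl <;> simp).trans Finset.card_le_two
  rw [hK] at hcard
  have : 2 ^ 3 ≤ 2 ^ (2 * m + 1) := Nat.pow_le_pow_right (by norm_num) (by omega)
  omega

/-- An automorphism fixing the fundamental classes and the torus, of field type `(1, σ)`, is trivial. -/
theorem trivial_of_normal (hm : 1 ≤ m) {β : MulAut (GF hK)} {σ : RingAut K}
    (hH : Maps β (rgdF4' hK (m := m)).H (rgdF4' hK (m := m)).H)
    (hX : ∀ i, Maps β (X K m (sc i)) (X K m (sc i)) ∧ Maps β (X K m (sc i + 8)) (X K m (sc i + 8)))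
    (h0 : ∀ t, β (x0G hK t) = x0G hK t)
    (h7 : ∀ t u, ∃ u', β (x7G hK t u) = x7G hK (σ t) u')
    (hd : ∀ p : Kˣ × Kˣ, β (dF hK p) = dF hK (p.1, Units.map σ.toRingHom p.2)) : β = 1 := by
  set R := rgdF4' hK (m := m) with hR
  have hk : ∀ x y : Kˣ, x ^ (2 * 2 ^ m + 2) = y ^ (2 * 2 ^ m + 2) → x = y := by
    intro x y h
    have e : (2 * 2 ^ m + 2) * (2 * 2 ^ m - 2) + 4 = 2 * (2 * (2 ^ m * 2 ^ m)) := by
      have he : 1 ≤ 2 ^ m := Nat.one_le_two_pow
      zify [show 2 ≤ 2 * 2 ^ m by omega]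
      ring
    have h1 : ∀ z : Kˣ, (z ^ (2 * 2 ^ m + 2)) ^ (2 * 2 ^ m - 2) * z ^ 4 = z ^ 2 := fun z => by
      rw [← pow_mul, ← pow_add, e, pow_mul', q_pow_unit hK]
    have h2 : x ^ 2 = y ^ 2 := by
      have hx := h1 x
      have hy := h1 y
      rw [h] at hx
      have h3 : x ^ 4 / x ^ 2 = y ^ 4 / y ^ 2 := by
        conv_lhs => rw [← hx]
        conv_rhs => rw [← hy]
        simp [div_eq_mul_inv, mul_comm, mul_left_comm]
      rwa [show ∀ z : Kˣ, z ^ 4 / z ^ 2 = z ^ 2 from fun z => by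
        rw [div_eq_iff_eq_mul, ← pow_add], show y ^ 4 / y ^ 2 = y ^ 2 by rw [div_eq_iff_eq_mul, ← pow_add]] at h3
    refine Units.ext (frobenius_inj K 2 ?_)
    show (x : K) ^ 2 = (y : K) ^ 2
    rw [← Units.val_pow_eq_pow_val, h2, Units.val_pow_eq_pow_val]
  have hσ : σ = 1 := by
    obtain ⟨j, hj, ej⟩ := AutFix.image_n R (i := 1) (hX 1).1 (hX 1).2 hH
    set n : GF hK := ⟨R.n 1, AutFix.n_mem_G' R 1⟩ with hn
    obtain ⟨pj, hpj⟩ := dF_surj hK (h := ⟨j, AutFix.H_le_G R hj⟩) hj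
    have hβn : β n = n * dF hK pj := by
      refine Subtype.ext ?_
      rw [ej, Subgroup.coe_mul, ← congrArg Subtype.val hpj]
    have hcomm : ∀ p p', dF hK p * dF hK p' * (dF hK p)⁻¹ = dF hK p' := fun p p' => by
      rw [← map_mul, mul_comm p p', map_mul, mul_inv_cancel_right]
    refine RingEquiv.ext fun t => ?_
    show σ t = t
    by_cases ht : t = 0
    · rw [ht, map_zero]
    set s : Kˣ := Units.mk0 t ht
    obtain ⟨r, hr⟩ := n1_conj_dF hK ((1, s) : Kˣ × Kˣ)
    have e1 : n * dF hK (1, s) * n⁻¹ = dF hK (1 * s ^ (2 * 2 ^ m + 2), r) := Subtype.ext hr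
    obtain ⟨r', hr'⟩ := n1_conj_dF hK ((1, Units.map σ.toRingHom s) : Kˣ × Kˣ)
    have e1' : n * dF hK (1, Units.map σ.toRingHom s) * n⁻¹ =
        dF hK (1 * Units.map σ.toRingHom s ^ (2 * 2 ^ m + 2), r') := Subtype.ext hr'
    have e2 := congrArg β e1
    rw [map_mul, map_mul, map_inv, hβn, hd, hd,
      show ∀ a b c : GF hK, a * b * c * (a * b)⁻¹ = a * (b * c * b⁻¹) * a⁻¹ from fun a b c => by group,
      hcomm, e1'] at e2
    have e3 : (1 : Kˣ) * Units.map σ.toRingHom s ^ (2 * 2 ^ m + 2) = 1 * s ^ (2 * 2 ^ m + 2) :=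
      congrArg Prod.fst (dF_inj hK e2)
    rw [one_mul, one_mul] at e3
    exact congrArg Units.val (hk _ _ e3)
  subst hσ
  have hd1 : ∀ p, β (dF hK p) = dF hK p := fun p => by
    rw [hd]; rfl
  choose Q hQ using h7
  have hQ' : ∀ t u, β (x7G hK t u) = x7G hK t (Q t u) := fun t u => hQ t u
  have hsq : ∀ t : K, x7G hK t 0 * x7G hK t 0 = x7G hK 0 (t ^ (2 ^ m + 1)) := fun t => by
    rw [x7G_mul, CharTwo.add_self_eq_zero, add_zero, zero_add, pow_succ]
  have hroot : ∀ u : K, ∃ t : K, t ^ (2 ^ m + 1) = u := by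
    have hinj : Function.Injective fun t : K => t ^ (2 ^ m + 1) := by
      intro x y h
      simp only at h
      by_cases hx : x = 0
      · subst hx
        rw [zero_pow (Nat.succ_ne_zero _)] at h
        exact ((pow_eq_zero_iff (Nat.succ_ne_zero _)).1 h.symm).symm
      by_cases hy : y = 0
      · subst hy
        rw [zero_pow (Nat.succ_ne_zero _)] at h
        exact absurd ((pow_eq_zero_iff (Nat.succ_ne_zero _)).1 h) hx
      have := hk (Units.mk0 x hx) (Units.mk0 y hy) (Units.ext (by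
        simp only [Units.val_pow_eq_pow_val, Units.val_mk0]
        rw [show 2 * 2 ^ m + 2 = (2 ^ m + 1) * 2 by ring, pow_mul, pow_mul, h]))
      exact congrArg Units.val this
    intro u
    exact (Finite.injective_iff_surjective.1 hinj) u
  have hZ : ∀ u, β (x7G hK 0 u) = x7G hK 0 u := by
    intro u
    obtain ⟨t, rfl⟩ := hroot u
    rw [← hsq, map_mul, hQ', x7G_mul, CharTwo.add_self_eq_zero, CharTwo.add_self_eq_zero, zero_add, hsq,
      pow_succ]
  set g : K → K := fun t => Q t 0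
  have hsplit : ∀ t u, x7G hK t u = x7G hK t 0 * x7G hK 0 u := fun t u => by
    rw [x7G_mul, add_zero, zero_add, mul_zero, add_zero]
  have hadd : ∀ t t', g (t + t') = g t + g t' := by
    intro t t'
    have e : x7G hK t 0 * x7G hK t' 0 = x7G hK (t + t') 0 * x7G hK 0 (t ^ 2 ^ m * t') := by
      rw [← hsplit, x7G_mul, add_zero, zero_add]
    have e2 := congrArg β e
    rw [map_mul, map_mul, hQ', hQ', hQ', hZ, x7G_mul, x7G_mul, add_zero, mul_zero, add_zero] at e2
    have e3 := (x7G_inj hK e2).2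
    show Q (t + t') 0 = Q t 0 + Q t' 0
    linear_combination -e3
  have hhom : ∀ s : Kˣ, g (s : K) = (s : K) ^ (2 ^ m + 1) * g 1 := by
    intro s
    have e := congrArg β (dF_conj_x7G hK (1, s) 1 0)
    rw [map_mul, map_mul, map_inv, hd1, hQ', dF_conj_x7G, mul_zero, mul_one, hQ'] at e
    exact ((x7G_inj hK e).2).symm
  have hg1 : g 1 = 0 := by
    obtain ⟨t, ht0, ht1, hte⟩ := exists_moved hK hm
    have h := hadd t 1
    have h1 := hhom (Units.mk0 t ht0)
    have h2 := hhom (Units.mk0 (t + 1) ht1)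
    simp only [Units.val_mk0] at h1 h2
    rw [h1, h2, pow_succ, pow_succ, add_pow_char_pow (p := 2) (n := m), one_pow] at h
    have h3 : (t ^ 2 ^ m - t) * g 1 = 0 := by
      linear_combination h - t * g 1 * CharTwo.two_eq_zero (R := K)
    exact (mul_eq_zero.1 h3).resolve_left (sub_ne_zero.2 hte)
  have hg : ∀ t, g t = 0 := fun t => by
    by_cases ht : t = 0
    · subst ht
      have := hadd 0 0
      rwa [add_zero, left_eq_add] at this
    · have := hhom (Units.mk0 t ht)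
      rw [Units.val_mk0, hg1, mul_zero] at this
      exact this
  have h7' : ∀ t u, β (x7G hK t u) = x7G hK t u := fun t u => by
    rw [hsplit, map_mul, hQ', hZ, show Q t 0 = 0 from hg t]
  refine MulEquiv.ext fun y => AutFix.eq_one_of_fix R (fun a ha b hb => H1_comm hK ha.1 hb.1) ?_
    (fun i => (hX i).2) ?_ ?_ y
  · intro r hr
    have key : ∀ r : Fin 16, r.val < 8 → ∃ i : Fin 2,
        r = sc i ∨ r = [0].foldr wcl (sc i) ∨ r = [1].foldr wcl (sc i) ∨ r = [0, 1].foldr wcl (sc i) ∨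
        r = [1, 0].foldr wcl (sc i) ∨ r = [0, 1, 0].foldr wcl (sc i) ∨ r = [1, 0, 1].foldr wcl (sc i) := by
      decide
    obtain ⟨i, h | h | h | h | h | h | h⟩ := key r hr
    exacts [⟨[], i, h.symm⟩, ⟨_, i, h.symm⟩, ⟨_, i, h.symm⟩, ⟨_, i, h.symm⟩, ⟨_, i, h.symm⟩,
      ⟨_, i, h.symm⟩, ⟨_, i, h.symm⟩]
  · intro i x hx
    fin_cases i
    · obtain ⟨t, rfl⟩ := (mem_U0_iff hK).1 hx
      exact h0 t
    · obtain ⟨t, u, rfl⟩ := (mem_U7_iff hK).1 hx
      exact h7' t u
  · intro x hx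
    obtain ⟨p, rfl⟩ := dF_surj hK hx
    exact hd1 p

theorem exists_sigma {f : K → K} {A : Kˣ × Kˣ → K} (hf : Function.Injective f)
    (hadd : ∀ a b, f (a + b) = f a + f b) (emb : Kˣ → Kˣ × Kˣ) (hmul : ∀ (s : Kˣ) (t : K), f ((s : K) * t) = A (emb s) * f t) :
    ∃ σ : RingAut K, ∀ t, f t = f 1 * σ t := by
  have h0 : f 0 = 0 := by have := hadd 0 0; rw [add_zero] at this; exact left_eq_add.1 this
  have hc : f 1 ≠ 0 := fun h => one_ne_zero (hf (h.trans h0.symm))
  let φ : K →+* K :=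
    { toFun := fun t => f t / f 1
      map_one' := div_self hc
      map_zero' := by rw [h0, zero_div]
      map_add' := fun a b => by rw [hadd, add_div]
      map_mul' := fun a b => by
        rcases eq_or_ne a 0 with rfl | ha
        · rw [zero_mul, h0, zero_div, zero_mul]
        · have h1 := hmul (Units.mk0 a ha) 1
          have h2 := hmul (Units.mk0 a ha) b
          rw [Units.val_mk0] at h1 h2
          rw [mul_one] at h1
          rw [h2, h1, mul_div_assoc, mul_div_assoc, div_self hc, mul_one] }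
  refine ⟨RingEquiv.ofBijective φ (Finite.injective_iff_bijective.1 φ.injective), fun t => ?_⟩
  show f t = f 1 * (f t / f 1)
  field_simp

/-- Every automorphism is inner times a field automorphism. -/
theorem exists_decomp (hm : 1 ≤ m) (θ : MulAut (GF hK)) :
    ∃ (g : GF hK) (τ : RingAut K), θ = MulAut.conj g * fieldAutF hK τ := by
  set R := rgdF4' hK (m := m) with hR
  obtain ⟨x, hH, hX⟩ := normalised hK θ
  set ψ : MulAut (GF hK) := θ.trans (MulAut.conj x) with hψ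
  have ex0 : ∀ t, ∃ t', ψ (x0G hK t) = x0G hK t' := fun t =>
    (mem_U0_iff hK).1 (((hX 0).1 (x0G hK t)).1 (x0_mem hK t))
  have ex7 : ∀ t u, ∃ p : K × K, ψ (x7G hK t u) = x7G hK p.1 p.2 := fun t u => by
    obtain ⟨a, b, h⟩ := (mem_U7_iff hK).1 (((hX 1).1 (x7G hK t u)).1 (x7_mem hK t u))
    exact ⟨(a, b), h⟩
  have exd : ∀ p, ∃ p', ψ (dF hK p) = dF hK p' := fun p => dF_surj hK ((hH (dF hK p)).1 (dF_mem hK p))
  choose f hf using ex0
  choose P hP using ex7
  choose S hS using exd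
  have fadd : ∀ a b, f (a + b) = f a + f b := fun a b => by
    apply x0G_inj hK
    rw [← hf, x0G_add, map_mul, hf, hf, x0G_add]
  have finj : Function.Injective f := fun a b h => x0G_inj hK (ψ.injective (by rw [hf, hf, h]))
  have fmul : ∀ (p : Kˣ × Kˣ) (t : K), f ((p.1 : K) * t) = ((S p).1 : K) * f t := fun p t => by
    have h := congrArg ψ (dF_conj_x0G hK p t)
    rw [map_mul, map_mul, map_inv, hS, hf, dF_conj_x0G, hf] at h
    exact (x0G_inj hK h).symm
  set F : K → K := fun t => (P t 0).1 with hF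
  have Pz : ∀ u, (P 0 u).1 = 0 := by
    intro u
    have h := congrArg ψ (show x7G hK 0 u * x7G hK 0 u = 1 by
      rw [x7G_mul, add_zero, CharTwo.add_self_eq_zero, mul_zero, add_zero, x7G_zero])
    rw [map_mul, map_one, hP, x7G_mul, ← x7G_zero hK] at h
    obtain ⟨-, h2⟩ := x7G_inj hK h
    rw [CharTwo.add_self_eq_zero, zero_add, ← pow_succ] at h2
    exact (pow_eq_zero_iff (Nat.succ_ne_zero _)).1 h2
  have hsplit : ∀ t u, x7G hK t u = x7G hK t 0 * x7G hK 0 u := fun t u => by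
    rw [x7G_mul, add_zero, zero_add, mul_zero, add_zero]
  have PF : ∀ t u, (P t u).1 = F t := fun t u => by
    have h := congrArg ψ (hsplit t u)
    rw [map_mul, hP, hP, hP, x7G_mul] at h
    rw [(x7G_inj hK h).1, Pz, add_zero]
  have Fadd : ∀ a b, F (a + b) = F a + F b := fun a b => by
    have h := congrArg ψ (x7G_mul hK a 0 b 0)
    rw [map_mul, hP, hP, hP, x7G_mul] at h
    have h1 := (x7G_inj hK h).1
    rw [PF (a + b)] at h1
    exact h1.symm
  have Finj : Function.Injective F := fun a b h => by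
    obtain ⟨u, hu⟩ : ∃ u, x7G hK a 0 = x7G hK b 0 * x7G hK 0 u := by
      have h2 : F (a + b) = 0 := by rw [Fadd, h, CharTwo.add_self_eq_zero]
      -- the square of the difference is trivial
      have h3 : ψ (x7G hK (a + b) 0 * x7G hK (a + b) 0) = 1 := by
        rw [map_mul, hP, show (P (a + b) 0).1 = 0 from h2, x7G_mul, add_zero, CharTwo.add_self_eq_zero, mul_zero,
          add_zero, x7G_zero]
      have h4 := ψ.injective (h3.trans (map_one ψ).symm)
      rw [x7G_mul, ← x7G_zero hK] at h4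
      obtain ⟨-, h5⟩ := x7G_inj hK h4
      rw [add_zero, zero_add, ← pow_succ] at h5
      have hab : a + b = 0 := (pow_eq_zero_iff (Nat.succ_ne_zero _)).1 h5
      have : a = b := CharTwo.add_eq_zero.1 hab
      exact ⟨0, by rw [this, ← hsplit]⟩
    have h2 := congrArg Subtype.val hu
    rw [← hsplit] at hu
    exact (x7G_inj hK hu).1
  have Fmul : ∀ (p : Kˣ × Kˣ) (t : K), F ((p.2 : K) * t) = ((S p).2 : K) * F t := fun p t => by
    have h := congrArg ψ (dF_conj_x7G hK p t 0)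
    rw [map_mul, map_mul, map_inv, hS, hP, dF_conj_x7G, hP, mul_zero] at h
    have h2 := (x7G_inj hK h).1
    rw [PF] at h2
    exact h2.symm
  obtain ⟨σ₀, hσ₀⟩ := exists_sigma hK finj fadd (A := fun p => ((S p).1 : K)) (fun s : Kˣ => (s, 1))
    fun s t => fmul (s, 1) t
  obtain ⟨σ₁, hσ₁⟩ := exists_sigma hK Finj Fadd (A := fun p => ((S p).2 : K)) (fun s : Kˣ => (1, s))
    fun s t => Fmul (1, s) t
  have hf0 : f 0 = 0 := by have := fadd 0 0; rw [add_zero] at this; exact left_eq_add.1 this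
  have hF0 : F 0 = 0 := by have := Fadd 0 0; rw [add_zero] at this; exact left_eq_add.1 this
  have hc0 : f 1 ≠ 0 := fun h => one_ne_zero (finj (h.trans hf0.symm))
  have hc1 : F 1 ≠ 0 := fun h => one_ne_zero (Finj (h.trans hF0.symm))
  set d : Kˣ × Kˣ := (Units.mk0 _ hc0, Units.mk0 _ hc1) with hd
  have hS1 : ∀ p : Kˣ × Kˣ, S p = (Units.map σ₀.toRingHom p.1, Units.map σ₁.toRingHom p.2) := by
    intro p
    refine Prod.ext (Units.ext ?_) (Units.ext ?_)
    · have h := fmul p 1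
      rw [mul_one, hσ₀] at h
      exact (mul_left_cancel₀ hc0 (h.trans (mul_comm _ _))).symm
    · have h := Fmul p 1
      rw [mul_one, hσ₁] at h
      exact (mul_left_cancel₀ hc1 (h.trans (mul_comm _ _))).symm
  set β : MulAut (GF hK) := fieldAutF hK σ₀⁻¹ * (MulAut.conj (dF hK d⁻¹) * ψ) with hβ
  have hb0 : ∀ t, β (x0G hK t) = x0G hK t := fun t => by
    show fieldAutF hK σ₀⁻¹ (dF hK d⁻¹ * ψ (x0G hK t) * (dF hK d⁻¹)⁻¹) = _
    rw [hf, dF_conj_x0G, fieldAutF_x0, hσ₀]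
    congr 1
    simp [d, hc0]
  have hb7 : ∀ t u, ∃ u', β (x7G hK t u) = x7G hK ((σ₀⁻¹ * σ₁ : RingAut K) t) u' := fun t u => by
    refine ⟨σ₀⁻¹ ((((d⁻¹).2 : Kˣ) : K) ^ (2 ^ m + 1) * (P t u).2), ?_⟩
    show fieldAutF hK σ₀⁻¹ (dF hK d⁻¹ * ψ (x7G hK t u) * (dF hK d⁻¹)⁻¹) = _
    rw [hP, dF_conj_x7G, fieldAutF_x7, PF, hσ₁]
    congr 1
    simp [d, hc1]
  have hbd : ∀ p : Kˣ × Kˣ, β (dF hK p) = dF hK (p.1, Units.map (σ₀⁻¹ * σ₁ : RingAut K).toRingHom p.2) :=
    fun p => by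
    show fieldAutF hK σ₀⁻¹ (dF hK d⁻¹ * ψ (dF hK p) * (dF hK d⁻¹)⁻¹) = _
    rw [hS, ← map_inv, ← map_mul, ← map_mul, mul_right_comm, mul_inv_cancel, one_mul, fieldAutF_dF, hS1]
    congr 1
    refine Prod.ext (Units.ext ?_) (Units.ext ?_)
    · exact σ₀.symm_apply_apply _
    · rfl
  have hgal : ∀ (τ : RingAut K) (j : Fin 16), Maps (fieldAutF hK τ) (X K m j) (X K m j) := fun τ j g =>
    ⟨fun h => galG_X hK τ j h, fun h => by
      have h2 := galG_X hK τ⁻¹ j h
      have e : fieldAutF hK τ⁻¹ (fieldAutF hK τ g) = g := by rw [map_inv]; exact (fieldAutF hK τ).symm_apply_apply g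
      exact (congrArg Subtype.val e) ▸ h2⟩
  have hdX : ∀ (j : Fin 16), Maps (MulAut.conj (dF hK d⁻¹)) (X K m j) (X K m j) := fun j =>
    Maps.conj fun y => ⟨fun h => R.H_conj_U _ (dF_mem hK _) j y h, fun h => by
      have := R.H_conj_U _ (inv_mem (dF_mem hK d⁻¹)) j _ h
      show _ ∈ R.U j
      simpa [mul_assoc] using this⟩
  have hbX : ∀ i, Maps β (X K m (sc i)) (X K m (sc i)) ∧ Maps β (X K m (sc i + 8)) (X K m (sc i + 8)) :=
    fun i => ⟨((hX i).1.trans (hdX _)).trans (hgal _ _), ((hX i).2.trans (hdX _)).trans (hgal _ _)⟩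
  have hbH : Maps β R.H R.H := fun g => by
    constructor
    · intro hg
      obtain ⟨p, rfl⟩ := dF_surj hK hg
      rw [hbd]
      exact dF_mem hK _
    · intro hg
      obtain ⟨p, hp⟩ := dF_surj hK hg
      have e : g = dF hK (p.1, Units.map (σ₀⁻¹ * σ₁ : RingAut K).symm.toRingHom p.2) := by
        refine β.injective ?_
        rw [hp, hbd]
        congr 1
        exact Prod.ext rfl (Units.ext ((σ₀⁻¹ * σ₁ : RingAut K).apply_symm_apply _).symm)
      rw [e]
      exact dF_mem hK _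
  have h1 := trivial_of_normal hK hm hbH hbX hb0 hb7 hbd
  have e2 : ψ = MulAut.conj (dF hK d) * fieldAutF hK σ₀ := by
    have h : fieldAutF hK σ₀ = MulAut.conj (dF hK d⁻¹) * ψ := by
      rw [hβ, map_inv] at h1
      exact inv_mul_eq_one.1 h1
    rw [h, ← mul_assoc, ← map_mul, ← map_mul, mul_inv_cancel, map_one, map_one, one_mul]
  refine ⟨x⁻¹ * dF hK d, σ₀, ?_⟩
  rw [map_mul, mul_assoc, ← e2]
  refine MulEquiv.ext fun y => ?_
  simp [ψ, mul_assoc]

/-- `|Out ²F₄(q)| = 2m + 1`. -/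
theorem card_out (hm : 1 ≤ m) : Nat.card (Cfsg.Out (GF hK)) = 2 * m + 1 := by
  haveI : Fact (Nat.Prime 2) := ⟨Nat.prime_two⟩
  set R := rgdF4' hK (m := m) with hR
  let Ψ : RingAut K →* Cfsg.Out (GF hK) := (QuotientGroup.mk' _).comp (fieldAutF hK)
  have hbij : Function.Bijective Ψ := by
    constructor
    · rw [injective_iff_map_eq_one]
      intro τ hτ
      obtain ⟨g, hg⟩ := (QuotientGroup.eq_one_iff _).mp hτ
      have hval : ∀ y : GF hK, (g : GL chevF4.Idx K) * (y : GL chevF4.Idx K) * (g : GL chevF4.Idx K)⁻¹ =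
          galG τ (y : GL chevF4.Idx K) := fun y =>
        congrArg Subtype.val (DFunLike.congr_fun hg y)
      have hG : ∀ j, X K m j ≤ GF hK := fun j => by
        rw [GF, ← twisted_eq hK]; exact X_le_twisted hK j
      have hspan : ∀ A : Set (Fin 16), ∀ y ∈ R.span A,
          (g : GL chevF4.Idx K) * y * (g : GL chevF4.Idx K)⁻¹ ∈ R.span A := by
        intro A y hy
        have h : R.span A ≤ (R.span A).comap (MulAut.conj (g : GL chevF4.Idx K)).toMonoidHom :=
          R.span_le fun j hj z hz => by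
            show (g : GL chevF4.Idx K) * z * (g : GL chevF4.Idx K)⁻¹ ∈ R.span A
            rw [hval ⟨z, hG j hz⟩]
            exact R.U_le_span hj (galG_X hK τ j hz)
        exact h hy
      have hgH := AutFix.mem_H_of_maps R (l := [0, 1, 0, 1, 0, 1, 0, 1]) (long8 hK) g.2 (hspan _) (hspan _)
      obtain ⟨p, rfl⟩ := dF_surj hK hgH
      have key : ∀ t, τ t = (p.1 : K) * t := fun t => by
        have h := hval (x0G hK t)
        rw [show ((x0G hK t : GF hK) : GL chevF4.Idx K) = x0 m t from rfl, dF_conj_x0 hK, galG_x0 hK] at h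
        exact (x0_inj hK h).symm
      refine RingEquiv.ext fun t => ?_
      have h1 := key 1
      rw [map_one, mul_one] at h1
      show τ t = t
      rw [key, ← h1, one_mul]
    · intro o
      obtain ⟨θ, rfl⟩ := QuotientGroup.mk_surjective o
      obtain ⟨g, τ, rfl⟩ := exists_decomp hK hm θ
      refine ⟨τ, ?_⟩
      show QuotientGroup.mk (fieldAutF hK τ) = _
      rw [QuotientGroup.mk_mul, (QuotientGroup.eq_one_iff (MulAut.conj g)).2 (MonoidHom.mem_range.2 ⟨g, rfl⟩),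
        one_mul]
  rw [← Nat.card_congr (Equiv.ofBijective Ψ hbij), TwistE6D4.card_ringAut_finite 2 (2 * m + 1) hK]

end Cfsg.Agent.Twisted.F4Aut
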